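import Groth.Agent.GenusZeroModLib.Dom

/-!
# Components of large genus and good reduction
-/

set_option autoImplicit false
set_option linter.style.haveILetI false
set_option linter.unusedSectionVars false
set_option maxHeartbeats 4000000
set_option backward.isDefEq.respectTransparency false
set_option backward.isDefEq.respectTransparency.types false
universe u

open CategoryTheory CategoryTheory.Limits AlgebraicGeometry TopologicalSpace Topology IsLocalRing
open PtBlowFactLib MinModLib

noncomputable section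

namespace GoodRedLib

section Curves

variable {k : Type u} [Field k] {A B : Scheme.{u}} [A.Over (Spec (CommRingCat.of k))]
  [B.Over (Spec (CommRingCat.of k))] [IsProper (A ↘ Spec (CommRingCat.of k))]
  [IsProper (B ↘ Spec (CommRingCat.of k))] [IsIntegral A] [IsIntegral B]

theorem birational_data (hB : topologicalKrullDim B = 1) (φ : A ⟶ B)
    (hφ : φ ≫ (B ↘ Spec (CommRingCat.of k)) = A ↘ Spec (CommRingCat.of k))
    (hgen : φ (genericPoint A) = genericPoint B) (hst : Function.Surjective (φ.stalkMap (genericPoint A)).hom) :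
    ∃ U : B.Opens, Dense (U : Set B) ∧ IsIso (φ ∣_ U) ∧ IsFinite φ := by
  haveI : IsProper (φ ≫ (B ↘ Spec (CommRingCat.of k))) := by rw [hφ]; infer_instance
  haveI : IsProper φ := IsProper.of_comp φ (B ↘ Spec (CommRingCat.of k))
  have hF : IsField (B.presheaf.stalk (φ (genericPoint A))) := by
    rw [hgen]; exact Field.toIsField B.functionField
  have hbir : PurBirLib.Bir φ := ⟨hgen, (ConcreteCategory.isIso_iff_bijective _).2
    ⟨by letI := hF.toField; exact RingHom.injective (φ.stalkMap (genericPoint A)).hom, hst⟩⟩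
  obtain ⟨U, hU, hUi⟩ := PurBirLib.exists_isIso_restrict φ hbir (genericPoint A) hbir.2
  haveI := hUi
  exact ⟨U, U.isOpen.dense ⟨_, hU⟩, hUi, GenusPushLib.isFinite_of_birational (k := k) hB.le φ hφ U
    (U.isOpen.dense ⟨_, hU⟩) ((φ ⁻¹ᵁ U).isOpen.dense ⟨genericPoint A, hU⟩)⟩

/-- Genus, constants and Euler characteristic along a birational morphism of curves; the equality case. -/
theorem birational_curves (hB : topologicalKrullDim B = 1) (φ : A ⟶ B)
    (hφ : φ ≫ (B ↘ Spec (CommRingCat.of k)) = A ↘ Spec (CommRingCat.of k))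
    (hgen : φ (genericPoint A) = genericPoint B) (hst : Function.Surjective (φ.stalkMap (genericPoint A)).hom) :
    Curv2.genus k A ≤ Curv2.genus k B ∧
      Module.finrank k (Coh.HH B (Coh.structureModule B) 0) ≤ Module.finrank k (Coh.HH A (Coh.structureModule A) 0) ∧
      Curv2.euler k A (Coh.structureModule A) =
        (Module.finrank k (Coh.HH A (Coh.structureModule A) 0) : ℤ) - (Curv2.genus k A : ℤ) ∧
      (Module.finrank k (Coh.HH B (Coh.structureModule B) 0) = Module.finrank k (Coh.HH A (Coh.structureModule A) 0) →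
        Curv2.genus k A = Curv2.genus k B → IsIso φ) := by
  obtain ⟨U, hd, hUi, hfin⟩ := birational_data hB φ hφ hgen hst
  haveI := hUi; haveI := hfin
  haveI : Coh.IsQCoh (Coh.structureModule A) := QCohLib.isQCoh_unit
  haveI := CurvLib.isNoetherian k (X := B)
  have hB1 : topologicalKrullDim B ≤ ((1 : ℕ) : WithBot ℕ∞) := hB.le
  obtain ⟨hp, hpe⟩ := PushLinLib.euler_push k φ hφ (Coh.structureModule A)
  let eA : Coh.HH A (Coh.structureModule A) 0 ≃+ Γ(A, ⊤) := DegPullLib.e0 (Coh.structureModule A)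
  letI : Algebra k Γ(A, ⊤) := (Coh.toGlobal (A ↘ Spec (CommRingCat.of k))).toAlgebra
  letI : Algebra k Γ(B, ⊤) := (Coh.toGlobal (B ↘ Spec (CommRingCat.of k))).toAlgebra
  let lA : Coh.HH A (Coh.structureModule A) 0 ≃ₗ[k] Γ(A, ⊤) :=
    { eA with map_smul' := fun r x => DegPullLib.e0_smul (Coh.structureModule A) _ x }
  let lB : Coh.HH B (Coh.structureModule B) 0 ≃ₗ[k] Γ(B, ⊤) :=
    { (show Coh.HH B (Coh.structureModule B) 0 ≃+ Γ(B, ⊤) from DegPullLib.e0 (Coh.structureModule B)) with
      map_smul' := fun r x => DegPullLib.e0_smul (Coh.structureModule B) _ x }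
  let ψ : Γ(B, ⊤) →ₐ[k] Γ(A, ⊤) :=
    { φ.appTop.hom with
      commutes' := fun r => by
        show φ.appTop.hom ((B ↘ Spec (CommRingCat.of k)).appTop.hom _) =
          (A ↘ Spec (CommRingCat.of k)).appTop.hom _
        rw [← hφ, Scheme.Hom.comp_appTop]
        rfl }
  have hinj : Function.Injective ψ := by
    letI := (RegConLib.isField_constants k (C := B)).toField
    exact RingHom.injective ψ.toRingHom
  haveI : Module.Finite k (Coh.HH A (Coh.structureModule A) 0) :=
    CurvLib.finite_HH (k := k) (DevissLib.isCoh_structureModule _) 0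
  haveI : Module.Finite k (Coh.HH B (Coh.structureModule B) 0) :=
    CurvLib.finite_HH (k := k) (DevissLib.isCoh_structureModule _) 0
  haveI : Module.Finite k Γ(A, ⊤) := Module.Finite.equiv lA
  haveI : Module.Finite k Γ(B, ⊤) := Module.Finite.equiv lB
  refine ⟨GenusPushLib.genus_le hB.le φ hφ U hd, ?_, ?_, fun h0 h1 => ?_⟩
  · rw [lA.finrank_eq, lB.finrank_eq]
    exact LinearMap.finrank_le_finrank_of_injective (f := ψ.toLinearMap) hinj
  · rw [hpe, CurvLib.euler_eq_sub fun n hn => CurvLib.subsingleton_HH_of_dim_le _ (d := 1) hB1 n (by omega)]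
    rw [Curv2.genus, hp 0, hp 1]
  · refine GenusPushLib.isIso_of_eq (k := k) hB.le φ hφ U hd ?_ h1
    exact (LinearMap.injective_iff_surjective_of_finrank_eq_finrank (f := ψ.toLinearMap)
      (lB.finrank_eq.symm.trans (h0.trans lA.finrank_eq))).1 hinj

end Curves

variable {R : Type u} [CommRing R] [IsDomain R] [IsDiscreteValuationRing R]

/-- Pullback squares of generic fibres follow isomorphisms of generic fibres. -/
theorem isPullback_comp {X Y : Over (Spec (CommRingCat.of R))} (b : X ⟶ Y) [IsIso ((Neron.genericFibre R).map b)]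
    {C : Scheme.{u}} {f : C ⟶ Spec (CommRingCat.of (FractionRing R))} {g : C ⟶ X.left}
    (hg : IsPullback g f X.hom (Neron.genPt R)) : IsPullback (g ≫ b.left) f Y.hom (Neron.genPt R) := by
  let F := ((Neron.genericFibre R).map b).left
  haveI : IsIso F := inferInstanceAs (IsIso ((Over.forget _).map ((Neron.genericFibre R).map b)))
  have hF1 : F ≫ pullback.fst Y.hom (Neron.genPt R) = pullback.fst X.hom (Neron.genPt R) ≫ b.left := by
    simp [F, Neron.genericFibre, Over.pullback]
  have hF2 : F ≫ pullback.snd Y.hom (Neron.genPt R) = pullback.snd X.hom (Neron.genPt R) := by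
    simp [F, Neron.genericFibre, Over.pullback]
  refine (IsPullback.of_hasPullback Y.hom (Neron.genPt R)).of_iso (hg.isoPullback ≪≫ asIso F).symm
    (Iso.refl _) (Iso.refl _) (Iso.refl _) ?_ ?_ (by simp) (by simp)
  · rw [Iso.symm_hom, Iso.refl_hom, Category.comp_id, Iso.eq_inv_comp, Iso.trans_hom, asIso_hom,
      Category.assoc, hF1, ← Category.assoc, hg.isoPullback_hom_fst]
  · rw [Iso.symm_hom, Iso.refl_hom, Category.comp_id, Iso.eq_inv_comp, Iso.trans_hom, asIso_hom,
      Category.assoc, hF2, hg.isoPullback_hom_snd]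

theorem isExcCurve_of_range {X : Over (Spec (CommRingCat.of R))} (hX : ArSurf.IsArithSurface R X)
    (D E : ArSurf.VertComp R X)
    (h : Set.range (D.ι.base : D.curve.left → X.left) = Set.range (E.ι.base : E.curve.left → X.left))
    (hE : Models.IsExcCurve E.ι) : Models.IsExcCurve D.ι := by
  obtain ⟨hXi, hXp, hXn⟩ := surf_instances hX
  haveI := hXi; haveI := hXp; haveI := hXn
  haveI := hX.2.2.2.1
  have hk : D.ι.ker = E.ι.ker := VertIntLib.ker_eq_of_genPt D E (GenusZeroModLib.genPt_eq_of_range D E h)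
  obtain ⟨hc, K, hK, e, ⟨t⟩⟩ := hE
  let a : E.curve.left ⟶ D.curve.left := IsClosedImmersion.lift D.ι E.ι hk.le
  let b : D.curve.left ⟶ E.curve.left := IsClosedImmersion.lift E.ι D.ι hk.ge
  have ha : a ≫ D.ι = E.ι := IsClosedImmersion.lift_fac _ _ _
  have hb : b ≫ E.ι = D.ι := IsClosedImmersion.lift_fac _ _ _
  let e₁ : E.curve.left ≅ D.curve.left :=
    ⟨a, b, by rw [← cancel_mono E.ι, Category.assoc, hb, ha, Category.id_comp],
      by rw [← cancel_mono D.ι, Category.assoc, ha, hb, Category.id_comp]⟩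
  refine ⟨hk ▸ hc, K, hK, e ≪≫ e₁, ?_⟩
  rw [show (e ≪≫ e₁).hom ≫ D.ι = e.hom ≫ E.ι by rw [Iso.trans_hom, Category.assoc, ha], hk]
  exact ⟨t⟩

variable {Γ' : Scheme.{u}} [Γ'.Over (Spec (CommRingCat.of (ResidueField R)))]
  [IsProper (Γ' ↘ Spec (CommRingCat.of (ResidueField R)))] [IsIntegral Γ']

theorem genus_le_h1 {X : Over (Spec (CommRingCat.of R))} [IsProper X.hom] (D : ArSurf.VertComp R X)
    (ν : Γ' ⟶ D.curve.left)
    (hν : ν ≫ (D.curve.left ↘ Spec (CommRingCat.of (ResidueField R))) = Γ' ↘ Spec (CommRingCat.of (ResidueField R)))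
    (hgen : ν (genericPoint Γ') = genericPoint D.curve.left)
    (hst : Function.Surjective (ν.stalkMap (genericPoint Γ')).hom) :
    Curv2.genus (ResidueField R) Γ' ≤ Models.h1 R X D ∧
      Models.wdeg R X D ≤ Module.finrank (ResidueField R) (Coh.HH Γ' (Coh.structureModule Γ') 0) ∧
      Curv2.euler (ResidueField R) Γ' (Coh.structureModule Γ') =
        (Module.finrank (ResidueField R) (Coh.HH Γ' (Coh.structureModule Γ') 0) : ℤ) -
          (Curv2.genus (ResidueField R) Γ' : ℤ) ∧
      (Models.wdeg R X D = Module.finrank (ResidueField R) (Coh.HH Γ' (Coh.structureModule Γ') 0) →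
        Curv2.genus (ResidueField R) Γ' = Models.h1 R X D → IsIso ν) := by
  haveI := VertIntLib.isProper_curve D
  obtain ⟨h1, h2, h3, h4⟩ := birational_curves (k := ResidueField R) D.dim_eq ν hν hgen hst
  exact ⟨h1.trans (GenusZeroModLib.genus_def D).le, ((GenusZeroModLib.wdeg_def D).le).trans h2, h3,
    fun a b => h4 ((GenusZeroModLib.wdeg_def D).symm.trans a) (b.trans (GenusZeroModLib.genus_def D).symm)⟩

theorem surjective_stalk_at {A B : Scheme.{u}} (φ : A ⟶ B) {x y : A} (h : x = y)
    (hs : Function.Surjective (φ.stalkMap x).hom) : Function.Surjective (φ.stalkMap y).hom := by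
  subst h
  exact hs

/-- Contracting exceptional curves keeps a curve of positive genus. -/
theorem exists_minimal {C : Scheme.{u}} {f : C ⟶ Spec (CommRingCat.of (FractionRing R))}
    (hΓ' : 0 < Curv2.genus (ResidueField R) Γ') :
    ∀ (m : ℕ) (X : Over (Spec (CommRingCat.of R))) (_hX : ArSurf.IsArithSurface R X) (g : C ⟶ X.left)
      (_hg : IsPullback g f X.hom (Neron.genPt R)) (D : ArSurf.VertComp R X) (ν : Γ' ⟶ D.curve.left),
      ν ≫ (D.curve.left ↘ Spec (CommRingCat.of (ResidueField R))) = Γ' ↘ Spec (CommRingCat.of (ResidueField R)) →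
      ν (genericPoint Γ') = genericPoint D.curve.left →
      Function.Surjective (ν.stalkMap (genericPoint Γ')).hom →
      (Models.fibreComponents R X).ncard ≤ m →
      ∃ (Z : Over (Spec (CommRingCat.of R))) (gZ : C ⟶ Z.left) (D' : ArSurf.VertComp R Z) (ν' : Γ' ⟶ D'.curve.left),
        ArSurf.IsArithSurface R Z ∧ IsPullback gZ f Z.hom (Neron.genPt R) ∧
        (∀ E : ArSurf.VertComp R Z, ¬ Models.IsExcCurve E.ι) ∧
        ν' ≫ (D'.curve.left ↘ Spec (CommRingCat.of (ResidueField R))) = Γ' ↘ Spec (CommRingCat.of (ResidueField R)) ∧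
        ν' (genericPoint Γ') = genericPoint D'.curve.left ∧
        Function.Surjective (ν'.stalkMap (genericPoint Γ')).hom := by
  intro m
  induction m using Nat.strong_induction_on with
  | _ m ih =>
  intro X hX g hg D ν hν hgen hst hm
  by_cases hex : ∀ E : ArSurf.VertComp R X, ¬ Models.IsExcCurve E.ι
  · exact ⟨X, g, D, ν, hX, hg, hex, hν, hgen, hst⟩
  push_neg at hex
  obtain ⟨E, hE⟩ := hex
  obtain ⟨hXi, hXp, hXn⟩ := surf_instances hX
  haveI := hXi; haveI := hXp; haveI := hXn
  haveI := hX.2.2.2.1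
  have hne : Set.range (D.ι.base : D.curve.left → X.left) ≠ Set.range (E.ι.base : E.curve.left → X.left) := fun h => by
    obtain ⟨L, hL⟩ := MinModLib.exists_inverse_curve hX D
    have h1 := ((VertChiLib.isExcCurve_iff D
      (VertIntLib.isEffCartier_ker hX.1 D (VertIntLib.isFibGen_of_dim hX.2.2.1.le D)) hL).1
      (isExcCurve_of_range hX D E h hE)).1
    have h2 := (genus_le_h1 D ν hν hgen hst).1
    omega
  obtain ⟨Y, b, y, hy, hY, -, hpre, hiso, hbi⟩ := exists_contraction_exc hX E hE
  haveI := hbi; haveI := hiso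
  obtain ⟨hYi, hYp, hYn⟩ := surf_instances hY
  haveI := hYi; haveI := hYp; haveI := hYn
  haveI := isProper_hom b
  obtain ⟨hby, hbD⟩ := image_not_point hX b y hy E D hpre hne
  have hst' := isIso_stalkMap_off b.left hy hby
  obtain ⟨D₂, hD₂, hD₂g⟩ := MinModLib.exists_image hY b D hbD
  have hrange : Set.range (D.ι ≫ b.left) ⊆ Set.range (D₂.ι.base : D₂.curve.left → Y.left) := by
    rw [Scheme.Hom.comp_base, TopCat.coe_comp, Set.range_comp]
    exact hD₂.ge
  let φ : D.curve.left ⟶ D₂.curve.left :=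
    IsClosedImmersion.lift D₂.ι (D.ι ≫ b.left) (DvrProperLib.ker_le_ker_of_range_subset D₂.ι _ hrange)
  have hφ : φ ≫ D₂.ι = D.ι ≫ b.left := IsClosedImmersion.lift_fac _ _ _
  haveI hres : IsClosedImmersion (Spec.map (CommRingCat.ofHom (residue R))) :=
    IsClosedImmersion.spec_of_surjective _ residue_surjective
  have hover : φ ≫ (D₂.curve.left ↘ Spec (CommRingCat.of (ResidueField R))) =
      D.curve.left ↘ Spec (CommRingCat.of (ResidueField R)) := by
    rw [← cancel_mono (Spec.map (CommRingCat.ofHom (residue R))), Category.assoc, VertIntLib.over_hom,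
      ← Category.assoc, hφ, Category.assoc, Over.w b, VertIntLib.over_hom]
  have hξ : φ (genericPoint D.curve.left) = genericPoint D₂.curve.left := D₂.ι.isEmbedding.injective (by
    rw [← Scheme.Hom.comp_apply, hφ]
    exact hD₂g.symm)
  have hsurj : Function.Surjective (φ.stalkMap (genericPoint D.curve.left)).hom := by
    refine GenusZeroModLib.surjective_stalk φ D₂.ι _ hφ _ ?_
    rw [Scheme.Hom.stalkMap_comp]
    exact (D.ι.stalkMap_surjective _).comp (ConcreteCategory.bijective_of_isIso
      (b.left.stalkMap (Models.genPtOf R X D))).2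
  clear_value φ
  obtain ⟨-, hlt⟩ := contraction_spec hX hY E b y hy hpre hiso
  refine ih _ (lt_of_lt_of_le hlt hm) Y hY (g ≫ b.left) (isPullback_comp b hg) D₂ (ν ≫ φ)
    (by rw [Category.assoc, hover, hν]) (by rw [Scheme.Hom.comp_apply, hgen, hξ]) ?_ le_rfl
  rw [Scheme.Hom.stalkMap_comp]
  exact hst.comp (surjective_stalk_at φ hgen.symm hsurj)

theorem isComponentList_congr {X : Over (Spec (CommRingCat.of R))} {n : ℕ} {Γ Δ : Fin n → ArSurf.VertComp R X}
    (hΓ : Models.IsComponentList R X Γ)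
    (h : ∀ i, Set.range ((Δ i).ι.base : (Δ i).curve.left → X.left) = Set.range ((Γ i).ι.base : (Γ i).curve.left → X.left)) :
    Models.IsComponentList R X Δ := by
  have e : (fun i => Set.range ((Δ i).ι.base : (Δ i).curve.left → X.left)) =
      (fun i => Set.range ((Γ i).ι.base : (Γ i).curve.left → X.left)) := funext h
  exact ⟨e ▸ hΓ.1, e ▸ hΓ.2⟩

/-- On a minimal surface a component of genus at least the genus of the generic fibre is the closed fibre and is
smooth, so the surface is smooth. -/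
theorem smooth_of_minimal [Smooth (Γ' ↘ Spec (CommRingCat.of (ResidueField R)))] {C : Scheme.{u}}
    {f : C ⟶ Spec (CommRingCat.of (FractionRing R))} (hC : Curve.IsSmoothProperCurve (FractionRing R) C f)
    (hH0 : IsIso f.appTop) (hg2 : 2 ≤ Models.curveGenus (FractionRing R) C f)
    {Z : Over (Spec (CommRingCat.of R))} (hZ : ArSurf.IsArithSurface R Z) {g : C ⟶ Z.left}
    (hg : IsPullback g f Z.hom (Neron.genPt R)) (hne : ∀ E : ArSurf.VertComp R Z, ¬ Models.IsExcCurve E.ι)
    (D : ArSurf.VertComp R Z) (ν : Γ' ⟶ D.curve.left)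
    (hν : ν ≫ (D.curve.left ↘ Spec (CommRingCat.of (ResidueField R))) = Γ' ↘ Spec (CommRingCat.of (ResidueField R)))
    (hgen : ν (genericPoint Γ') = genericPoint D.curve.left)
    (hst : Function.Surjective (ν.stalkMap (genericPoint Γ')).hom)
    (hbig : (Models.curveGenus (FractionRing R) C f : ℤ) ≤
      1 - Curv2.euler (ResidueField R) Γ' (Coh.structureModule Γ')) : Smooth Z.hom := by
  classical
  obtain ⟨hZi, hZp, hZn⟩ := surf_instances hZ
  haveI := hZi; haveI := hZp; haveI := hZn
  haveI := hZ.2.2.2.1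
  have hRPM : Models.IsRegularProperModel R Z.left Z.hom C f :=
    ⟨⟨hZ.2.2.2.1, inferInstance, inferInstance, g, hg⟩, hZp, hZ.1⟩
  -- Euler characteristic of the generic fibre
  have hχ : FGA.eulerCharLE (FractionRing R) ((Neron.genericFibre R).obj Z).left
      (Coh.structureModule ((Neron.genericFibre R).obj Z).left) 1 =
      1 - (Models.curveGenus (FractionRing R) C f : ℤ) := euler_generic hZ hg hC hH0
  obtain ⟨ω, hω⟩ := RegConLib.exists_isCanonical hZ
  have hnef := (Groth.Agent.S13321.result R Z hZ (by rw [hχ]; omega) ω hω).1 (relMinimal_of_no_exc hZ hne)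
  obtain ⟨n, Γ, hΓ⟩ := VertChiLib.exists_list_of_dim_two (X := Z) hZ.2.2.1
  obtain ⟨i₀, hi₀⟩ : ∃ i, Set.range ((Γ i).ι.base : (Γ i).curve.left → Z.left) =
      Set.range (D.ι.base : D.curve.left → Z.left) := hΓ.2.ge (MinModLib.range_mem_fibreComponents hZ D)
  let Δ := Function.update Γ i₀ D
  have hΔ₀ : Δ i₀ = D := Function.update_self ..
  have hΔ : Models.IsComponentList R Z Δ := isComponentList_congr hΓ fun i => by
    by_cases h : i = i₀
    · subst h; rw [hΔ₀]; exact hi₀.symm
    · rw [show Δ i = Γ i from Function.update_of_ne h ..]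
  choose Ls hLs using fun i => MinModLib.exists_inverse_curve hZ (Δ i)
  have h316 := Groth.Agent.S13316.result R Z hZ Δ hΔ ω hω
  rw [hχ] at h316
  have hle : (Models.mult R Z (Δ i₀) : ℤ) * ArSurf.inter R Z ω (Δ i₀) ≤
      ∑ i, (Models.mult R Z (Δ i) : ℤ) * ArSurf.inter R Z ω (Δ i) :=
    Finset.single_le_sum (f := fun i => (Models.mult R Z (Δ i) : ℤ) * ArSurf.inter R Z ω (Δ i))
      (fun i _ => mul_nonneg (Int.natCast_nonneg _) (hnef _)) (Finset.mem_univ i₀)
  let a : Fin n → ℤ := Pi.single i₀ 1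
  have h320 := Groth.Agent.S3320.result R C Z.left f Z.hom hC hH0 hRPM Δ hΔ Ls hLs a
  have hsum : (∑ q : Fin n × Fin n, a q.1 * a q.2 * ArSurf.inter R Z (Ls q.2) (Δ q.1)) =
      ArSurf.inter R Z (Ls i₀) (Δ i₀) := by
    rw [Fintype.sum_eq_single (i₀, i₀) fun q hq => ?_]
    · simp [a]
    · by_cases h1 : q.1 = i₀
      · have h2 : q.2 ≠ i₀ := fun h2 => hq (Prod.ext h1 h2)
        simp [a, h2]
      · simp [a, h1]
  have hD2 : ArSurf.inter R Z (Ls i₀) (Δ i₀) ≤ 0 := hsum.ge.trans h320.1
  have hadj := RegConLib.inter_add_inter_cst hZ (Δ i₀) (Ls i₀) (hLs i₀) ω hω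
  rw [VertChiLib.cst] at hadj
  obtain ⟨hh1, hhw, heul, hiso⟩ := genus_le_h1 D ν hν hgen hst
  have hm := VertIntLib.mult_pos hZ.1 hΔ i₀
  have hm' := mul_le_mul_of_nonneg_right (show (1 : ℤ) ≤ (Models.mult R Z (Δ i₀) : ℤ) by exact_mod_cast hm)
    (hnef (Δ i₀))
  rw [one_mul] at hm'
  have e1 : Models.h1 R Z (Δ i₀) = Models.h1 R Z D := by rw [hΔ₀]
  have e2 : Models.wdeg R Z (Δ i₀) = Models.wdeg R Z D := by rw [hΔ₀]
  have hmK : (Models.mult R Z (Δ i₀) : ℤ) * ArSurf.inter R Z ω (Δ i₀) = ArSurf.inter R Z ω (Δ i₀) := by omega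
  have hD20 : ArSurf.inter R Z (Ls i₀) (Δ i₀) = 0 := by omega
  have hm1 : (Models.mult R Z (Δ i₀) : ℤ) = 1 := mul_right_cancel₀ (b := ArSurf.inter R Z ω (Δ i₀)) (by omega)
    (by rw [one_mul]; exact hmK)
  haveI : IsIso ν := hiso (by omega) (by omega)
  obtain ⟨c, hc⟩ := h320.2.1 (hsum.trans hD20)
  have hall : ∀ i, i = i₀ := fun i => by
    by_contra h
    have e3 := hc i
    have e4 := hc i₀
    simp only [a, Pi.single_eq_of_ne h, Int.cast_zero, Pi.single_eq_same, Int.cast_one] at e3 e4
    rcases mul_eq_zero.1 e3.symm with h' | h'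
    · rw [h', zero_mul] at e4; exact one_ne_zero e4
    · exact (VertIntLib.mult_pos hZ.1 hΔ i).ne' (by exact_mod_cast h')
  have hker : D.ι.ker = Models.specialFibreIdeal R Z := by
    rw [VertIntLib.specialFibreIdeal_eq hZ.1 hΔ, Fintype.prod_eq_single i₀ fun i hi => absurd (hall i) hi,
      show Models.mult R Z (Δ i₀) = 1 by exact_mod_cast hm1, pow_one, hΔ₀]
  obtain ⟨q, hq⟩ := GenusZeroModLib.line_transport ν (Iso.refl Γ') (Γ' ↘ Spec (CommRingCat.of (ResidueField R)))
    (Γ' ↘ Spec (CommRingCat.of (ResidueField R))) (D.curve.left ↘ Spec (CommRingCat.of (ResidueField R)))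
    (Category.id_comp _) hν
  obtain ⟨e, he⟩ := GenusZeroModLib.fibre_iso D (Spec.map (CommRingCat.ofHom (algebraMap R (ResidueField R))))
    (by rw [IsLocalRing.ResidueField.algebraMap_eq]) hker q hq
  refine GenusZeroModLib.smooth_of_two_fibres Z.hom ?_ ?_
  · haveI := hC.2.1
    have h := hg.isoPullback_inv_snd
    show Smooth (pullback.snd Z.hom (Neron.genPt R))
    rw [← h]
    infer_instance
  · rw [← he]
    exact (MorphismProperty.cancel_left_of_respectsIso @Smooth e.hom _).2 inferInstance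
where
  euler_generic {X : Over (Spec (CommRingCat.of R))} (hX : ArSurf.IsArithSurface R X) {C : Scheme.{u}}
    {f : C ⟶ Spec (CommRingCat.of (FractionRing R))} {g : C ⟶ X.left}
    (hg : IsPullback g f X.hom (Neron.genPt R)) (hC : Curve.IsSmoothProperCurve (FractionRing R) C f)
    (hH0 : IsIso f.appTop) :
    FGA.eulerCharLE (FractionRing R) ((Neron.genericFibre R).obj X).left
      (Coh.structureModule ((Neron.genericFibre R).obj X).left) 1 =
      1 - (Models.curveGenus (FractionRing R) C f : ℤ) := by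
    obtain ⟨hXi, hXp, hXn⟩ := surf_instances hX
    haveI := hXp
    letI : C.Over (Spec (CommRingCat.of (FractionRing R))) := ⟨f⟩
    haveI : IsProper (C ↘ Spec (CommRingCat.of (FractionRing R))) := hC.1
    letI : (pullback X.hom (Neron.genPt R)).Over (Spec (CommRingCat.of (FractionRing R))) :=
      ⟨((Neron.genericFibre R).obj X).hom⟩
    haveI : IsProper ((pullback X.hom (Neron.genPt R)) ↘ Spec (CommRingCat.of (FractionRing R))) :=
      inferInstanceAs (IsProper (pullback.snd X.hom (Neron.genPt R)))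
    have hd : topologicalKrullDim ↥(pullback X.hom (Neron.genPt R)) ≤ ((1 : ℕ) : WithBot ℕ∞) := by
      refine le_of_le_of_eq ?_ hC.2.2.2
      exact (hg.isoPullback.symm.hom.homeomorph.isInducing.topologicalKrullDim_le)
    haveI : Coh.IsQCoh (Coh.structureModule (pullback X.hom (Neron.genPt R))) := QCohLib.isQCoh_unit
    have h := (VertChiLib.euler_iso (F := FractionRing R) hg.isoPullback hg.isoPullback_hom_snd
      (Coh.structureModule (pullback X.hom (Neron.genPt R)))).2
    show FGA.eulerCharLE (FractionRing R) (pullback X.hom (Neron.genPt R)) (Coh.structureModule _) 1 = _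
    rw [HilbPolyLib.eulerCharLE_eq (k := FractionRing R) hd, ← h]
    exact VertChiLib.euler_curve hC hH0

end GoodRedLib

end
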